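-- Team project SUG (S2412): leaf [GARITH] of the generic block (helper32).
import Mathlib
import Cfsg.Agent.Lib.Helper32.SUG.Field
import Cfsg.Agent.Lib.Helper60.SUG.GenDefs

set_option autoImplicit false

namespace Cfsg.Agent.Lib.Helper32.SUG

open Cfsg.Agent.Lib.Helper60.SUG

universe u

theorem cop_of {a b : ℕ} (h : ∀ d, d ∣ a → d ∣ b → d ∣ 1) : a.Coprime b :=
  Nat.eq_one_of_dvd_one (h _ (Nat.gcd_dvd_left a b) (Nat.gcd_dvd_right a b))

theorem dvd_one_of_dvd_two_odd {d m : ℕ} (h2 : d ∣ 2) (hm : d ∣ 2 * m + 1) : d ∣ 1 := by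
  rcases (Nat.dvd_prime Nat.prime_two).mp h2 with h | h
  · rw [h]
  · rw [h] at hm; omega

/-- [GARITH]. -/
theorem pkgGArith : PkgGArith.{u} := by
  intro F _ _ q _ hF hq3
  obtain ⟨g, hg0, hg, hgen⟩ := exists_gen hF
  have hspan := fixed_span hF hg0 hg hgen
  have hγq : (g ^ (q + 1)) ^ q = g ^ (q + 1) := mu_fixed (by omega) hg
  generalize hγ : g ^ (q + 1) = γ at hspan hγq
  have hγ0 : γ ≠ 0 := by rw [← hγ]; exact pow_ne_zero _ hg0
  have hγ1 : γ ^ (q - 1) = 1 := by
    have h1 : γ ^ (q - 1) * γ = γ := by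
      rw [← pow_succ, show q - 1 + 1 = q by omega, hγq]
    exact mul_right_cancel₀ hγ0 (by rw [h1, one_mul])
  have hγ2 : γ ^ (q + 1) = γ ^ 2 := by
    rw [show q + 1 = (q - 1) + 2 by omega, pow_add, hγ1, one_mul]
  have hqq : q ^ 2 - 1 = (q - 1) * (q + 1) := by
    obtain ⟨m, rfl⟩ := Nat.exists_eq_add_of_le hq3
    have h1 : 3 + m - 1 = m + 2 := by omega
    rw [h1]
    have : (3 + m) ^ 2 = (m + 2) * (3 + m + 1) + 1 := by ring
    omega
  have hgpow : g ^ (q ^ 2 - 1) = 1 := by rw [← hg]; exact pow_orderOf_eq_one g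
  -- the norm-one generator
  have hα1 : (g ^ (q - 1)) ^ (q + 1) = 1 := by rw [← pow_mul, ← hqq, hgpow]
  have hα1sq : (g ^ (q - 1)) ^ 2 ≠ 1 := by
    intro h
    rw [← pow_mul] at h
    have h1 := orderOf_dvd_of_pow_eq_one h
    rw [hg, hqq] at h1
    have h2 := Nat.le_of_dvd (by
      have : 0 < q - 1 := by omega
      positivity) h1
    have h3 : 0 < q - 1 := by omega
    nlinarith
  rcases Nat.even_or_odd q with he | ho
  · -- q even
    obtain ⟨k, hk⟩ := he
    refine ⟨γ, g ^ (q - 1), hγ0, hγq, hα1, hα1sq, ?_, ?_⟩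
    · have hc : (q - 1).Coprime (q + 1) := by
        apply cop_of
        intro d h1 h2
        have h3 : d ∣ 2 := by
          have := Nat.dvd_sub h2 h1
          rwa [show q + 1 - (q - 1) = 2 by omega] at this
        have h4 : d ∣ 2 * (k - 1) + 1 := by
          rwa [show 2 * (k - 1) + 1 = q - 1 by omega]
        exact dvd_one_of_dvd_two_odd h3 h4
      exact (hc.coprime_dvd_left (orderOf_dvd_of_pow_eq_one hγ1)).coprime_dvd_right
        (orderOf_dvd_of_pow_eq_one hα1)
    · intro x hx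
      rw [hγ2]
      exact hspan x hx
  · have hmod : q % 4 = 1 ∨ q % 4 = 3 := by
      obtain ⟨r, hr⟩ := ho
      omega
    rcases hmod with h1 | h3
    · -- q ≡ 1 (mod 4)
      obtain ⟨k, hk⟩ : ∃ k, q = 4 * k + 1 := ⟨q / 4, by omega⟩
      have hk1 : 1 ≤ k := by omega
      have hαB : (g ^ (2 * (q - 1))) ^ (2 * k + 1) = 1 := by
        rw [← pow_mul]
        have : 2 * (q - 1) * (2 * k + 1) = q ^ 2 - 1 := by
          rw [hqq, hk]
          have : 4 * k + 1 - 1 = 4 * k := by omega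
          rw [this]; ring
        rw [this, hgpow]
      refine ⟨γ, g ^ (2 * (q - 1)), hγ0, hγq, ?_, ?_, ?_, ?_⟩
      · rw [← pow_mul]
        have : 2 * (q - 1) * (q + 1) = (q ^ 2 - 1) * 2 := by rw [hqq]; ring
        rw [this, pow_mul, hgpow, one_pow]
      · intro h
        rw [← pow_mul] at h
        have h1 := orderOf_dvd_of_pow_eq_one h
        rw [hg, hqq] at h1
        have h3 : 0 < q - 1 := by omega
        have h2 := Nat.le_of_dvd (by positivity) h1
        have h4 : 5 ≤ q := by omega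
        nlinarith
      · have hc : (q - 1).Coprime (2 * k + 1) := by
          apply cop_of
          intro d h1 h2
          have h3 : d ∣ 2 := by
            have h5 : d ∣ 2 * (2 * k + 1) := Dvd.dvd.mul_left h2 2
            have := Nat.dvd_sub h5 h1
            rwa [show 2 * (2 * k + 1) - (q - 1) = 2 by omega] at this
          exact dvd_one_of_dvd_two_odd h3 h2
        exact (hc.coprime_dvd_left (orderOf_dvd_of_pow_eq_one hγ1)).coprime_dvd_right
          (orderOf_dvd_of_pow_eq_one hαB)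
      · intro x hx
        rw [hγ2]
        exact hspan x hx
    · -- q ≡ 3 (mod 4)
      obtain ⟨k, hk⟩ : ∃ k, q = 4 * k + 3 := ⟨q / 4, by omega⟩
      have hμA : (γ ^ 2) ^ (2 * k + 1) = 1 := by
        rw [← pow_mul, show 2 * (2 * k + 1) = q - 1 by omega, hγ1]
      have hμ4 : (γ ^ 2) ^ (q + 1) = γ ^ 4 := by
        rw [← pow_mul, mul_comm, pow_mul, hγ2, ← pow_mul]
      refine ⟨γ ^ 2, g ^ (q - 1), pow_ne_zero _ hγ0, ?_, hα1, hα1sq, ?_, ?_⟩
      · rw [← pow_mul, mul_comm, pow_mul, hγq]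
      · have hc : (2 * k + 1).Coprime (q + 1) := by
          apply cop_of
          intro d h1 h2
          have h3 : d ∣ 2 := by
            have h5 : d ∣ 2 * (2 * k + 1) := Dvd.dvd.mul_left h1 2
            have := Nat.dvd_sub h2 h5
            rwa [show q + 1 - 2 * (2 * k + 1) = 2 by omega] at this
          exact dvd_one_of_dvd_two_odd h3 h1
        exact (hc.coprime_dvd_left (orderOf_dvd_of_pow_eq_one hμA)).coprime_dvd_right
          (orderOf_dvd_of_pow_eq_one hα1)
      · intro x hx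
        rw [hμ4]
        refine AddSubmonoid.closure_mono ?_ (hspan x hx)
        rintro _ ⟨j, rfl⟩
        refine ⟨(k + 1) * j, ?_⟩
        show (γ ^ 4) ^ ((k + 1) * j) = (γ ^ 2) ^ j
        rw [pow_mul, ← pow_mul γ 4 (k + 1), show 4 * (k + 1) = q + 1 by omega, hγ2]

end Cfsg.Agent.Lib.Helper32.SUG
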